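import Cfsg.Agent.H275.TwoFix

set_option autoImplicit false

/-!
# Finite subgroups of `GL₂` of order prime to the characteristic

Acting on the projective line over an algebraically closed field every element that acts nontrivially has exactly two
fixed points. Consequences for subgroups of `GL₂(p)` containing many elements of the shape
"eigenvalue `lam⁻¹` on a line, determinant `lam`", `lam` a generator of the multiplicative group.
-/

namespace Cfsg.Agent.H275.GLTwoFix

open MulAction Matrix Cfsg.Agent.H275.TwoFix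
open scoped OnePoint

section Basic

variable {K : Type*} [Field K] [DecidableEq K]

/-- The entries of the power of a matrix with a double eigenvalue. -/
theorem pow_of_sq_eq_zero {R : Type*} [CommRing R] {n : Type*} [Fintype n] [DecidableEq n]
    (al : R) (N : Matrix n n R) (hN : N * N = 0) (m : ℕ) :
    (al • (1 : Matrix n n R) + N) ^ (m + 1) =
      (al ^ (m + 1)) • (1 : Matrix n n R) + (((m + 1 : ℕ) : R) * al ^ m) • N := by
  induction m with
  | zero => simp
  | succ m ih =>
    rw [pow_succ, ih]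
    simp only [add_mul, mul_add, smul_mul_assoc, mul_smul_comm, one_mul, mul_one, hN, smul_zero,
      add_zero, smul_add, smul_smul]
    rw [add_assoc, ← add_smul]
    congr 2
    · ring
    · push_cast; ring

/-- A matrix of order prime to the characteristic with a double eigenvalue is scalar. -/
theorem scalar_of_discr_eq_zero {p : ℕ} [hp : Fact p.Prime] [CharP K p] (g : Matrix (Fin 2) (Fin 2) K) (m : ℕ)
    (hm : ¬ p ∣ m) (hgm : g ^ m = 1) (al : K)
    (h : (g - al • (1 : Matrix (Fin 2) (Fin 2) K)) * (g - al • (1 : Matrix (Fin 2) (Fin 2) K)) = 0)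
    (hal : al ≠ 0) : g = al • (1 : Matrix (Fin 2) (Fin 2) K) := by
  have hm0 : m ≠ 0 := by rintro rfl; exact hm (dvd_zero p)
  obtain ⟨k, rfl⟩ := Nat.exists_eq_succ_of_ne_zero hm0
  have h1 := pow_of_sq_eq_zero al _ h k
  rw [add_sub_cancel] at h1
  change g ^ (k + 1) = 1 at hgm
  rw [hgm] at h1
  have hk : ((k + 1 : ℕ) : K) ≠ 0 := by
    rw [ne_eq, CharP.cast_eq_zero_iff K p]; exact hm
  set N := g - al • (1 : Matrix (Fin 2) (Fin 2) K) with hN
  have hsc : ∀ i j, N i j = ((1 - al ^ (k + 1)) / (((k + 1 : ℕ) : K) * al ^ k)) * (1 : Matrix (Fin 2) (Fin 2) K) i j := by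
    intro i j
    have h2 := congrFun (congrFun h1 i) j
    simp only [Matrix.add_apply, Matrix.smul_apply, smul_eq_mul] at h2
    have h3 : (((k + 1 : ℕ) : K) * al ^ k) ≠ 0 := mul_ne_zero hk (pow_ne_zero _ hal)
    rw [div_mul_eq_mul_div, eq_div_iff h3]
    linear_combination -h2
  set c := ((1 - al ^ (k + 1)) / (((k + 1 : ℕ) : K) * al ^ k)) with hc
  have hNc : N = c • (1 : Matrix (Fin 2) (Fin 2) K) := by
    ext i j
    rw [hsc i j]; rfl
  have hc0 : c = 0 := by
    rw [hNc] at h
    have h2 := congrFun (congrFun h 0) 0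
    simp at h2
    exact h2
  rw [hc0, zero_smul] at hNc
  rw [← sub_eq_zero, ← hN, hNc]

theorem det_ne (g : GL (Fin 2) K) : g 0 0 * g 1 1 - g 0 1 * g 1 0 ≠ 0 := by
  have := g.det_ne_zero
  rwa [Matrix.det_fin_two] at this

/-- Scalars act trivially. -/
theorem smul_eq_self_of_scalar (g : GL (Fin 2) K) (h1 : g 1 0 = 0) (h2 : g 0 1 = 0) (h3 : g 0 0 = g 1 1)
    (x : OnePoint K) : g • x = x := by
  have hd := det_ne g
  rw [h1, h2, h3, mul_zero, sub_zero] at hd
  have hd' : g 1 1 ≠ 0 := left_ne_zero_of_mul hd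
  cases x with
  | infty => rw [OnePoint.smul_infty_eq_self_iff]; exact h1
  | coe k =>
    rw [OnePoint.smul_some_eq_ite, h1, h2, h3, zero_mul, zero_add, if_neg hd', add_zero,
      mul_div_assoc, mul_div_cancel₀ _ hd']

/-- An element that acts trivially is scalar. -/
theorem scalar_of_smul_eq_self (g : GL (Fin 2) K) (h : ∀ x : OnePoint K, g • x = x) :
    g 1 0 = 0 ∧ g 0 1 = 0 ∧ g 0 0 = g 1 1 := by
  have h1 : g 1 0 = 0 := OnePoint.smul_infty_eq_self_iff.1 (h ∞)
  have hd := det_ne g
  rw [h1, mul_zero, sub_zero] at hd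
  have hd' : g 1 1 ≠ 0 := right_ne_zero_of_mul hd
  have h2 := h ((0 : K) : OnePoint K)
  rw [OnePoint.smul_some_eq_ite, h1, mul_zero, zero_add, if_neg hd', mul_zero, zero_add,
    OnePoint.coe_eq_coe, div_eq_zero_iff] at h2
  have h2' : g 0 1 = 0 := h2.resolve_right hd'
  have h3 := h ((1 : K) : OnePoint K)
  rw [OnePoint.smul_some_eq_ite, h1, h2', zero_mul, zero_add, if_neg hd', mul_one, add_zero,
    OnePoint.coe_eq_coe, div_eq_one_iff_eq hd'] at h3
  exact ⟨h1, h2', h3⟩

/-- The number of fixed points is two. -/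
theorem exists_two_fixed {p : ℕ} [hp : Fact p.Prime] [CharP K p] [IsAlgClosed K] (hp2 : p ≠ 2)
    (g : GL (Fin 2) K) (m : ℕ) (hm : ¬ p ∣ m) (hgm : g ^ m = 1) (hne : ∃ x : OnePoint K, g • x ≠ x) :
    ∃ x y : OnePoint K, x ≠ y ∧ ∀ z : OnePoint K, g • z = z ↔ z = x ∨ z = y := by
  have h2 : (2 : K) ≠ 0 := by
    have : ((2 : ℕ) : K) ≠ 0 := by
      rw [ne_eq, CharP.cast_eq_zero_iff K p]
      intro hc
      exact hp2 ((Nat.prime_dvd_prime_iff_eq hp.out Nat.prime_two).1 hc)
    exact_mod_cast this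
  have hgm' : (g : Matrix (Fin 2) (Fin 2) K) ^ m = 1 := by
    rw [← Units.val_pow_eq_pow_val, hgm, Units.val_one]
  have hd := det_ne g
  set a := g 0 0 with ha
  set b := g 0 1 with hb
  set c := g 1 0 with hc
  set d := g 1 1 with hdd
  have hfix : ∀ k : K, g • (k : OnePoint K) = k ↔ c * k ^ 2 + (d - a) * k - b = 0 := by
    intro k
    rw [← Matrix.GeneralLinearGroup.fixpointPolynomial_aeval_eq_zero_iff]
    simp [Matrix.GeneralLinearGroup.fixpointPolynomial, ha, hb, hc, hdd]
  -- the discriminant is nonzero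
  have hdisc : (d - a) ^ 2 + 4 * b * c ≠ 0 := by
    intro h0
    have hal : (a + d) / 2 ≠ 0 := by
      intro h3
      apply hd
      have h4 : a = -d := by
        rw [div_eq_zero_iff] at h3
        exact eq_neg_of_add_eq_zero_left (h3.resolve_right h2)
      have h5 : (4 : K) ≠ 0 := by
        have : (4 : K) = 2 * 2 := by norm_num
        rw [this]; exact mul_ne_zero h2 h2
      have h6 : (4 : K) * (a * d - b * c) = 0 := by
        rw [h4] at h0 ⊢
        linear_combination -h0
      exact (mul_eq_zero.1 h6).resolve_left h5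
    have hsq : ((g : Matrix (Fin 2) (Fin 2) K) - ((a + d) / 2) • (1 : Matrix (Fin 2) (Fin 2) K)) *
        ((g : Matrix (Fin 2) (Fin 2) K) - ((a + d) / 2) • (1 : Matrix (Fin 2) (Fin 2) K)) = 0 := by
      ext i j
      rw [Matrix.mul_apply, Fin.sum_univ_two]
      fin_cases i <;> fin_cases j <;>
        simp [Matrix.sub_apply, Matrix.smul_apply, ← ha, ← hb, ← hc, ← hdd] <;>
        field_simp <;> first | linear_combination h0 | ring
    have hs := scalar_of_discr_eq_zero (g : Matrix (Fin 2) (Fin 2) K) m hm hgm' _ hsq hal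
    obtain ⟨x, hx⟩ := hne
    apply hx
    apply smul_eq_self_of_scalar
    · have := congrFun (congrFun hs 1) 0
      simpa using this
    · have := congrFun (congrFun hs 0) 1
      simpa using this
    · have e1 := congrFun (congrFun hs 0) 0
      have e2 := congrFun (congrFun hs 1) 1
      simp at e1 e2
      exact e1.trans e2.symm
  by_cases hc0 : c = 0
  · have had : d - a ≠ 0 := by
      intro h3
      apply hdisc
      rw [hc0, h3]; ring
    refine ⟨∞, ((b / (d - a) : K) : OnePoint K), (OnePoint.infty_ne_coe _), fun z => ?_⟩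
    cases z with
    | infty =>
      constructor
      · intro _; exact Or.inl rfl
      · intro _; rw [OnePoint.smul_infty_eq_self_iff]; exact hc0
    | coe k =>
      rw [hfix, hc0, OnePoint.coe_eq_coe]
      constructor
      · intro h3
        right
        rw [eq_div_iff had]
        linear_combination h3
      · rintro (h3 | h3)
        · exact absurd h3 (OnePoint.coe_ne_infty _)
        · rw [h3]; field_simp; ring
  · obtain ⟨s, hs⟩ := IsAlgClosed.exists_pow_nat_eq ((d - a) ^ 2 + 4 * b * c) (n := 2) (by norm_num)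
    have hs0 : s ≠ 0 := by
      rintro rfl
      apply hdisc
      rw [← hs]; ring
    refine ⟨(((a - d + s) / (2 * c) : K) : OnePoint K), (((a - d - s) / (2 * c) : K) : OnePoint K), ?_,
      fun z => ?_⟩
    · rw [ne_eq, OnePoint.coe_eq_coe]
      intro h3
      apply hs0
      field_simp at h3
      have h4 : (2 : K) * s = 0 := by linear_combination h3
      exact (mul_eq_zero.1 h4).resolve_left h2
    · cases z with
      | infty =>
        constructor
        · intro h3
          exact absurd (OnePoint.smul_infty_eq_self_iff.1 h3) hc0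
        · rintro (h3 | h3)
          · exact absurd h3 (OnePoint.infty_ne_coe _)
          · exact absurd h3 (OnePoint.infty_ne_coe _)
      | coe k =>
        rw [hfix, OnePoint.coe_eq_coe, OnePoint.coe_eq_coe]
        have h4 : 4 * c * (c * k ^ 2 + (d - a) * k - b) =
            (2 * c * k - (a - d + s)) * (2 * c * k - (a - d - s)) := by
          linear_combination hs
        have h5 : (4 : K) * c ≠ 0 := by
          have : (4 : K) = 2 * 2 := by norm_num
          rw [this]; exact mul_ne_zero (mul_ne_zero h2 h2) hc0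
        have h6 : (2 : K) * c ≠ 0 := mul_ne_zero h2 hc0
        constructor
        · intro h3
          rw [h3, mul_zero] at h4
          rcases mul_eq_zero.1 h4.symm with h7 | h7
          · left
            rw [eq_div_iff h6]
            linear_combination h7
          · right
            rw [eq_div_iff h6]
            linear_combination h7
        · rintro (h3 | h3)
          · have h7 : (2 * c * k - (a - d + s)) = 0 := by
              rw [h3]; field_simp; ring
            rw [h7, zero_mul] at h4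
            exact (mul_eq_zero.1 h4).resolve_left h5
          · have h7 : (2 * c * k - (a - d - s)) = 0 := by
              rw [h3]; field_simp; ring
            rw [h7, mul_zero] at h4
            exact (mul_eq_zero.1 h4).resolve_left h5

/-- The image in the group of permutations of the projective line. -/
def imgPerm (L : Subgroup (GL (Fin 2) K)) : Subgroup (Equiv.Perm (OnePoint K)) :=
  L.map (MulAction.toPermHom (GL (Fin 2) K) (OnePoint K))

theorem twoFixed {p : ℕ} [hp : Fact p.Prime] [CharP K p] [IsAlgClosed K] (hp2 : p ≠ 2)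
    (L : Subgroup (GL (Fin 2) K)) [Finite L] (hL : ¬ p ∣ Nat.card L) : TwoFixed (imgPerm L) (OnePoint K) := by
  rintro ⟨_, g, hg, rfl⟩ hne
  have h1 : g ^ Nat.card L = 1 := by
    have : (⟨g, hg⟩ : L) ^ Nat.card L = 1 := pow_card_eq_one'
    exact congrArg Subtype.val this
  have h2 : ∃ x : OnePoint K, g • x ≠ x := by
    by_contra hcon
    push Not at hcon
    apply hne
    apply Subtype.ext
    ext x
    exact hcon x
  obtain ⟨x, y, hxy, h3⟩ := exists_two_fixed hp2 g _ hL h1 h2
  exact ⟨x, y, hxy, h3⟩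

end Basic

section Prime

variable {p : ℕ} [hp : Fact p.Prime]

/-- The algebraic closure of the prime field. -/
abbrev KK (p : ℕ) [Fact p.Prime] : Type := AlgebraicClosure (ZMod p)

noncomputable instance decEqKK : DecidableEq (KK p) := Classical.decEq _

/-- The point of the projective line over the algebraic closure defined by a nonzero vector over the prime
field. -/
noncomputable def pt (v : Fin 2 → ZMod p) (hv : v ≠ 0) : OnePoint (KK p) :=
  OnePoint.map (algebraMap (ZMod p) (KK p)) ((OnePoint.equivProjectivization (ZMod p)).symm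
    (Projectivization.mk (ZMod p) v hv))

theorem pt_eq_iff {v w : Fin 2 → ZMod p} (hv : v ≠ 0) (hw : w ≠ 0) :
    pt v hv = pt w hw ↔ ∃ c : ZMod p, c • w = v := by
  have hinj : Function.Injective (OnePoint.map (algebraMap (ZMod p) (KK p))) := by
    apply Option.map_injective
    exact (algebraMap (ZMod p) (KK p)).injective
  unfold pt
  rw [hinj.eq_iff, (OnePoint.equivProjectivization (ZMod p)).symm.injective.eq_iff,
    Projectivization.mk_eq_mk_iff']

/-- The base change to the algebraic closure. -/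
noncomputable def bc (p : ℕ) [Fact p.Prime] : GL (Fin 2) (ZMod p) →* GL (Fin 2) (KK p) :=
  Matrix.GeneralLinearGroup.map (algebraMap (ZMod p) (KK p))

theorem bc_apply (g : GL (Fin 2) (ZMod p)) (i j : Fin 2) : bc p g i j = algebraMap (ZMod p) (KK p) (g i j) := rfl

theorem bc_smul_pt (g : GL (Fin 2) (ZMod p)) {v : Fin 2 → ZMod p} (hv : v ≠ 0) {c : ZMod p}
    (h : (g : Matrix (Fin 2) (Fin 2) (ZMod p)) *ᵥ v = c • v) : bc p g • pt v hv = pt v hv := by
  unfold pt bc
  rw [← OnePoint.map_smul]
  congr 1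
  apply (OnePoint.equivProjectivization (ZMod p)).injective
  rw [OnePoint.equivProjectivization_smul, Equiv.apply_symm_apply]
  have hgv : g • v = c • v := by
    rw [← h]; rfl
  have hgv0 : g • v ≠ 0 := by
    intro h0
    apply hv
    have : g⁻¹ • (g • v) = 0 := by rw [h0, smul_zero]
    rwa [inv_smul_smul] at this
  rw [Projectivization.smul_mk, Projectivization.mk_eq_mk_iff']
  exact ⟨c, hgv.symm⟩

/-- If a power of `g` acts trivially, then it is scalar. -/
theorem scalar_of_bc_pow (g : GL (Fin 2) (ZMod p)) (h : ∀ x : OnePoint (KK p), bc p g • x = x) :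
    g 1 0 = 0 ∧ g 0 1 = 0 ∧ g 0 0 = g 1 1 := by
  obtain ⟨h1, h2, h3⟩ := scalar_of_smul_eq_self _ h
  have hinj := (algebraMap (ZMod p) (KK p)).injective
  refine ⟨hinj ?_, hinj ?_, hinj ?_⟩
  · rw [map_zero]; exact h1
  · rw [map_zero]; exact h2
  · exact h3

/-- The key arithmetic: if `g` has eigenvalue `lam⁻¹` and determinant `lam`, and `g ^ k` is scalar, then
`lam ^ (3 * k) = 1`. -/
theorem pow_eq_one_of_scalar (g : GL (Fin 2) (ZMod p)) {v : Fin 2 → ZMod p} (hv : v ≠ 0) (lam : (ZMod p)ˣ)
    (h : (g : Matrix (Fin 2) (Fin 2) (ZMod p)) *ᵥ v = ((lam⁻¹ : (ZMod p)ˣ) : ZMod p) • v)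
    (hdet : (g : Matrix (Fin 2) (Fin 2) (ZMod p)).det = lam) (k : ℕ)
    (hk : (g ^ k) 1 0 = 0 ∧ (g ^ k) 0 1 = 0 ∧ (g ^ k) 0 0 = (g ^ k) 1 1) : lam ^ (3 * k) = 1 := by
  obtain ⟨h1, h2, h3⟩ := hk
  have hpow : ∀ n : ℕ, ((g ^ n : GL (Fin 2) (ZMod p)) : Matrix (Fin 2) (Fin 2) (ZMod p)) *ᵥ v =
      (((lam⁻¹) ^ n : (ZMod p)ˣ) : ZMod p) • v := by
    intro n
    induction n with
    | zero => simp
    | succ n ih =>
      rw [pow_succ, Units.val_mul, ← Matrix.mulVec_mulVec, h, Matrix.mulVec_smul, ih, smul_smul, pow_succ,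
        Units.val_mul, mul_comm]
  have hk1 := hpow k
  have hkd : ((g ^ k : GL (Fin 2) (ZMod p)) : Matrix (Fin 2) (Fin 2) (ZMod p)).det = ((lam ^ k : (ZMod p)ˣ) : ZMod p) := by
    rw [Units.val_pow_eq_pow_val, Matrix.det_pow, hdet, Units.val_pow_eq_pow_val]
  set M := ((g ^ k : GL (Fin 2) (ZMod p)) : Matrix (Fin 2) (Fin 2) (ZMod p)) with hM
  change M 1 0 = 0 at h1
  change M 0 1 = 0 at h2
  change M 0 0 = M 1 1 at h3
  have hal : M 1 1 = (((lam⁻¹) ^ k : (ZMod p)ˣ) : ZMod p) := by
    have e0 := congrFun hk1 0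
    have e1 := congrFun hk1 1
    simp only [Matrix.mulVec_fin_two, Pi.smul_apply, smul_eq_mul, h1, h2, h3, zero_mul, add_zero, zero_add,
      Matrix.cons_val_zero, Matrix.cons_val_one] at e0 e1
    by_cases hv0 : v 0 = 0
    · have hv1 : v 1 ≠ 0 := by
        intro hv1
        apply hv
        ext i
        fin_cases i
        · exact hv0
        · exact hv1
      exact mul_right_cancel₀ hv1 e1
    · exact mul_right_cancel₀ hv0 e0
  rw [Matrix.det_fin_two, h1, h3, mul_zero, sub_zero, hal, ← Units.val_mul, Units.val_inj] at hkd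
  have h5 : lam ^ (3 * k) = lam ^ k * lam ^ k * lam ^ k := by rw [← pow_add, ← pow_add]; congr 1; ring
  rw [h5]
  rw [inv_pow] at hkd
  generalize lam ^ k = t at hkd
  calc t * t * t = (t⁻¹ * t⁻¹) * t * t := by rw [hkd]
    _ = 1 := by group

theorem finite_map {A B : Type*} [Group A] [Group B] (f : A →* B) (L : Subgroup A) [Finite L] :
    Finite (L.map f) := by
  have h : Set.Finite (f '' (L : Set A)) := Set.Finite.image _ (Set.toFinite _)
  exact h.to_subtype

theorem finite_map_bc (L : Subgroup (GL (Fin 2) (ZMod p))) : Finite (L.map (bc p)) := finite_map _ _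

theorem finite_imgPerm (L : Subgroup (GL (Fin 2) (ZMod p))) : Finite (imgPerm (L.map (bc p))) := by
  have := finite_map_bc L
  exact finite_map _ _

/-- The order of the point stabilizer. -/
theorem dvd_card_stabilizer (L : Subgroup (GL (Fin 2) (ZMod p))) (lam : (ZMod p)ˣ)
    (hlam : ∀ u : (ZMod p)ˣ, u ∈ Subgroup.zpowers lam) {v : Fin 2 → ZMod p} (hv : v ≠ 0)
    (h : ∃ g ∈ L, (g : Matrix (Fin 2) (Fin 2) (ZMod p)) *ᵥ v = ((lam⁻¹ : (ZMod p)ˣ) : ZMod p) • v ∧
      (g : Matrix (Fin 2) (Fin 2) (ZMod p)).det = lam) :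
    p - 1 ∣ 3 * Nat.card (stabilizer (imgPerm (L.map (bc p))) (pt v hv)) := by
  obtain ⟨g, hg, hgv, hgd⟩ := h
  have := finite_map_bc L
  have := finite_imgPerm L
  let ga : imgPerm (L.map (bc p)) :=
    ⟨MulAction.toPermHom (GL (Fin 2) (KK p)) (OnePoint (KK p)) (bc p g), ⟨bc p g, ⟨g, hg, rfl⟩, rfl⟩⟩
  have hga : ga ∈ stabilizer (imgPerm (L.map (bc p))) (pt v hv) := bc_smul_pt g hv hgv
  let gs : stabilizer (imgPerm (L.map (bc p))) (pt v hv) := ⟨ga, hga⟩
  have h1 : orderOf gs ∣ Nat.card (stabilizer (imgPerm (L.map (bc p))) (pt v hv)) := orderOf_dvd_natCard gs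
  have h2 : lam ^ (3 * orderOf gs) = 1 := by
    apply pow_eq_one_of_scalar g hv lam hgv hgd
    apply scalar_of_bc_pow
    intro x
    have h3 : gs ^ orderOf gs = 1 := pow_orderOf_eq_one gs
    have h4 : (MulAction.toPermHom (GL (Fin 2) (KK p)) (OnePoint (KK p)) (bc p g)) ^ orderOf gs = 1 :=
      congrArg (fun t : stabilizer (imgPerm (L.map (bc p))) (pt v hv) =>
        ((t : imgPerm (L.map (bc p))) : Equiv.Perm (OnePoint (KK p)))) h3
    rw [← map_pow, ← map_pow] at h4
    have h5 := congrArg (fun f : Equiv.Perm (OnePoint (KK p)) => f x) h4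
    exact h5
  have h3 : orderOf lam = p - 1 := by
    rw [orderOf_eq_card_of_forall_mem_zpowers hlam, Nat.card_eq_fintype_card, ZMod.card_units]
  rw [← h3]
  exact (orderOf_dvd_of_pow_eq_one h2).trans (Nat.mul_dvd_mul_left 3 h1)

theorem not_dvd_card_map {L : Subgroup (GL (Fin 2) (ZMod p))} (hL : ¬ p ∣ Nat.card L) :
    ¬ p ∣ Nat.card (L.map (bc p)) := by
  intro h
  apply hL
  exact h.trans (Subgroup.card_map_dvd _ _)

/-- **Three lines**: with three lines, `p ≤ 13` and `p ≠ 11`. -/
theorem three_lines (hp2 : p ≠ 2) (L : Subgroup (GL (Fin 2) (ZMod p))) (hL : ¬ p ∣ Nat.card L) (lam : (ZMod p)ˣ)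
    (hlam : ∀ u : (ZMod p)ˣ, u ∈ Subgroup.zpowers lam) (v : Fin 3 → Fin 2 → ZMod p) (hv : ∀ i, v i ≠ 0)
    (hdist : ∀ i j, i ≠ j → ∀ c : ZMod p, c • v j ≠ v i)
    (h : ∀ i, ∃ g ∈ L, (g : Matrix (Fin 2) (Fin 2) (ZMod p)) *ᵥ v i = ((lam⁻¹ : (ZMod p)ˣ) : ZMod p) • v i ∧
      (g : Matrix (Fin 2) (Fin 2) (ZMod p)).det = lam) : p ≤ 13 ∧ p ≠ 11 := by
  have := finite_map_bc L
  have := finite_imgPerm L
  have htf := twoFixed hp2 (L.map (bc p)) (not_dvd_card_map hL)
  have hinj : Function.Injective (fun i => pt (v i) (hv i)) := by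
    intro i j hij
    by_contra hne
    obtain ⟨c, hc⟩ := (pt_eq_iff (hv i) (hv j)).1 hij
    exact hdist i j hne c hc
  have hst : ∀ i, p - 1 ∣ 3 * Nat.card (stabilizer (imgPerm (L.map (bc p))) (pt (v i) (hv i))) :=
    fun i => dvd_card_stabilizer L lam hlam (hv i) (h i)
  have hpos : ∀ i, 0 < Nat.card (stabilizer (imgPerm (L.map (bc p))) (pt (v i) (hv i))) :=
    fun i => Nat.card_pos
  constructor
  · by_contra hcon
    push Not at hcon
    apply false_of_three htf _ hinj
    intro i
    have h1 := Nat.le_of_dvd (by have := hpos i; omega) (hst i)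
    have h2 : 17 ≤ p := by
      by_contra h3
      push Not at h3
      have h4 := hp.out
      interval_cases p <;> revert h4 <;> decide
    change 6 ≤ Nat.card (stabilizer (imgPerm (L.map (bc p))) (pt (v i) (hv i)))
    omega
  · rintro rfl
    apply false_of_three htf _ hinj
    intro i
    change 6 ≤ Nat.card (stabilizer (imgPerm (L.map (bc 11))) (pt (v i) (hv i)))
    have h1 := hst i
    have h2 : 10 ∣ Nat.card (stabilizer (imgPerm (L.map (bc 11))) (pt (v i) (hv i))) :=
      (Nat.Coprime.dvd_mul_left (by norm_num)).1 h1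
    have h3 := Nat.le_of_dvd (hpos i) h2
    omega

/-- **Seven lines**: with seven lines, `p ≠ 13`. -/
theorem seven_lines (hp2 : p ≠ 2) (L : Subgroup (GL (Fin 2) (ZMod p))) (hL : ¬ p ∣ Nat.card L) (lam : (ZMod p)ˣ)
    (hlam : ∀ u : (ZMod p)ˣ, u ∈ Subgroup.zpowers lam) (v : Fin 7 → Fin 2 → ZMod p) (hv : ∀ i, v i ≠ 0)
    (hdist : ∀ i j, i ≠ j → ∀ c : ZMod p, c • v j ≠ v i)
    (h : ∀ i, ∃ g ∈ L, (g : Matrix (Fin 2) (Fin 2) (ZMod p)) *ᵥ v i = ((lam⁻¹ : (ZMod p)ˣ) : ZMod p) • v i ∧
      (g : Matrix (Fin 2) (Fin 2) (ZMod p)).det = lam) : p ≠ 13 := by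
  rintro rfl
  have := finite_map_bc L
  have := finite_imgPerm L
  have htf := twoFixed hp2 (L.map (bc 13)) (not_dvd_card_map hL)
  have hinj : Function.Injective (fun i => pt (v i) (hv i)) := by
    intro i j hij
    by_contra hne
    obtain ⟨c, hc⟩ := (pt_eq_iff (hv i) (hv j)).1 hij
    exact hdist i j hne c hc
  apply false_of_seven htf _ hinj
  intro i
  have h1 := dvd_card_stabilizer L lam hlam (hv i) (h i)
  have h2 : 3 * 4 ∣ 3 * Nat.card (stabilizer (imgPerm (L.map (bc 13))) (pt (v i) (hv i))) := h1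
  exact (Nat.mul_dvd_mul_iff_left (by norm_num)).1 h2

end Prime

end Cfsg.Agent.H275.GLTwoFix
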