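import Cfsg.Agent.PLocal.QdSection
import Cfsg.Agent.J2Type.ExtCube
import Cfsg.Agent.ClassicalGeometry.PSL2Basic

set_option autoImplicit false

/-!
# The Sylow `p`-subgroups of `Qd(p)`
-/

namespace Cfsg.Agent.H275.QdSylow

open Cfsg.Agent.PLocal.QdSection

/-- The upper unitriangular matrices of degree three. -/
def ut {p : ℕ} (a b c : ZMod p) : Matrix.SpecialLinearGroup (Fin 3) (ZMod p) :=
  ⟨!![1, a, b; 0, 1, c; 0, 0, 1], by simp [Matrix.det_fin_three]⟩

theorem ut_coe {p : ℕ} (a b c : ZMod p) : ((ut a b c : Matrix.SpecialLinearGroup (Fin 3) (ZMod p)) :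
    Matrix (Fin 3) (Fin 3) (ZMod p)) = !![1, a, b; 0, 1, c; 0, 0, 1] := rfl

theorem ut_mul {p : ℕ} (a b c a' b' c' : ZMod p) : ut a b c * ut a' b' c' = ut (a + a') (b' + a * c' + b) (c + c') := by
  apply Subtype.ext
  rw [Matrix.SpecialLinearGroup.coe_mul, ut_coe, ut_coe, ut_coe]
  ext i j
  fin_cases i <;> fin_cases j <;> simp [Matrix.mul_apply, Fin.sum_univ_three] <;> ring

theorem ut_zero {p : ℕ} : ut (0 : ZMod p) 0 0 = 1 := by
  apply Subtype.ext
  rw [ut_coe]
  ext i j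
  fin_cases i <;> fin_cases j <;> simp

theorem ut_inj {p : ℕ} {a b c a' b' c' : ZMod p} (h : ut a b c = ut a' b' c') : a = a' ∧ b = b' ∧ c = c' := by
  have h1 := congrArg Subtype.val h
  change !![1, a, b; 0, 1, c; 0, 0, 1] = !![1, a', b'; 0, 1, c'; 0, 0, 1] at h1
  refine ⟨?_, ?_, ?_⟩
  · simpa using congrFun (congrFun h1 0) 1
  · simpa using congrFun (congrFun h1 0) 2
  · simpa using congrFun (congrFun h1 1) 2

theorem ut_pow {p : ℕ} (a b c : ZMod p) (n : ℕ) :
    (ut a b c) ^ n = ut ((n : ZMod p) * a) ((n : ZMod p) * b + ((n.choose 2 : ℕ) : ZMod p) * (a * c))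
      ((n : ZMod p) * c) := by
  induction n with
  | zero => rw [pow_zero]; simp [ut_zero]
  | succ n ih =>
    rw [pow_succ, ih, ut_mul]
    have h1 : ((n + 1).choose 2 : ℕ) = n + n.choose 2 := by
      rw [Nat.choose_succ_succ' n 1, Nat.choose_one_right]
    rw [h1]
    congr 1
    · push_cast; ring
    · push_cast; ring
    · push_cast; ring

theorem ut_mem_qd {p : ℕ} (a b c : ZMod p) : ut a b c ∈ Cfsg.qd p :=
  Subgroup.subset_closure ⟨by simp [ut_coe], by simp [ut_coe], by simp [ut_coe]⟩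

/-- The unitriangular subgroup. -/
def UT (p : ℕ) : Subgroup ↥(Cfsg.qd p) where
  carrier := {M | ∃ a b c : ZMod p, (M : Matrix.SpecialLinearGroup (Fin 3) (ZMod p)) = ut a b c}
  one_mem' := ⟨0, 0, 0, by rw [ut_zero]; rfl⟩
  mul_mem' := by
    rintro M N ⟨a, b, c, h⟩ ⟨a', b', c', h'⟩
    exact ⟨_, _, _, by rw [Subgroup.coe_mul, h, h', ut_mul]⟩
  inv_mem' := by
    rintro M ⟨a, b, c, h⟩
    refine ⟨-a, a * c - b, -c, ?_⟩
    rw [Subgroup.coe_inv, h, inv_eq_iff_mul_eq_one, ut_mul, ← ut_zero]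
    congr 1 <;> ring

/-- Coordinates. -/
noncomputable def utEquiv (p : ℕ) : (ZMod p × ZMod p × ZMod p) ≃ UT p :=
  Equiv.ofBijective (fun t => ⟨⟨ut t.1 t.2.1 t.2.2, ut_mem_qd _ _ _⟩, ⟨t.1, t.2.1, t.2.2, rfl⟩⟩) (by
    constructor
    · rintro ⟨a, b, c⟩ ⟨a', b', c'⟩ h
      have h1 := congrArg (fun M : UT p => ((M : ↥(Cfsg.qd p)) : Matrix.SpecialLinearGroup (Fin 3) (ZMod p))) h
      obtain ⟨h2, h3, h4⟩ := ut_inj h1
      simp only at h2 h3 h4
      rw [h2, h3, h4]
    · rintro ⟨⟨M, hM⟩, a, b, c, h⟩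
      exact ⟨⟨a, b, c⟩, Subtype.ext (Subtype.ext h.symm)⟩)

theorem card_UT (p : ℕ) [hp : Fact p.Prime] : Nat.card (UT p) = p ^ 3 := by
  rw [← Nat.card_congr (utEquiv p), Nat.card_prod, Nat.card_prod, Nat.card_zmod]
  ring

/-- Coordinates of `Qd(p)`. -/
theorem card_qd (p : ℕ) [hp : Fact p.Prime] : Nat.card ↥(Cfsg.qd p) = p ^ 3 * (p ^ 2 - 1) := by
  have hmem : ∀ M : Matrix.SpecialLinearGroup (Fin 3) (ZMod p), M ∈ Cfsg.qd p →
      (M : Matrix (Fin 3) (Fin 3) (ZMod p)) 2 0 = 0 ∧ (M : Matrix (Fin 3) (Fin 3) (ZMod p)) 2 1 = 0 ∧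
        (M : Matrix (Fin 3) (Fin 3) (ZMod p)) 2 2 = 1 := by
    intro M hM
    induction hM using Subgroup.closure_induction with
    | mem x hx => exact hx
    | one => simp
    | mul x y _ _ hx hy =>
      obtain ⟨h1, h2, h3⟩ := hx
      obtain ⟨h4, h5, h6⟩ := hy
      simp only [Matrix.SpecialLinearGroup.coe_mul, Matrix.mul_apply, Fin.sum_univ_three, h1, h2, h3, h4, h5, h6]
      simp
    | inv x _ hx =>
      have hfin : IsOfFinOrder x := isOfFinOrder_of_finite x
      obtain ⟨n, -, hn⟩ := isOfFinOrder_iff_pow_eq_one.1 hfin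
      have hpow : ∀ k : ℕ, ((x ^ k : Matrix.SpecialLinearGroup (Fin 3) (ZMod p)) : Matrix (Fin 3) (Fin 3) (ZMod p)) 2 0 = 0 ∧
          ((x ^ k : Matrix.SpecialLinearGroup (Fin 3) (ZMod p)) : Matrix (Fin 3) (Fin 3) (ZMod p)) 2 1 = 0 ∧
          ((x ^ k : Matrix.SpecialLinearGroup (Fin 3) (ZMod p)) : Matrix (Fin 3) (Fin 3) (ZMod p)) 2 2 = 1 := by
        intro k
        induction k with
        | zero => simp
        | succ k ih =>
          obtain ⟨h1, h2, h3⟩ := ih
          obtain ⟨h4, h5, h6⟩ := hx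
          rw [pow_succ]
          simp only [Matrix.SpecialLinearGroup.coe_mul, Matrix.mul_apply, Fin.sum_univ_three, h1, h2, h3, h4, h5, h6]
          simp
      have hinv : x⁻¹ = x ^ (orderOf x - 1) := by
        rw [inv_eq_iff_mul_eq_one, ← pow_succ', Nat.sub_add_cancel (orderOf_pos x), pow_orderOf_eq_one]
      rw [hinv]
      exact hpow _
  have hbij : Function.Bijective (fun t : V p × S2 p => (⟨transl t.1 * diag t.2,
      (Cfsg.qd p).mul_mem (transl_mem_qd _) (diag_mem_qd _)⟩ : ↥(Cfsg.qd p))) := by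
    constructor
    · rintro ⟨v, A⟩ ⟨w, B⟩ h
      have h1 : transl v * diag A = transl w * diag B := congrArg Subtype.val h
      have h2 := congrArg (fun M : Matrix.SpecialLinearGroup (Fin 3) (ZMod p) => (M : Matrix (Fin 3) (Fin 3) (ZMod p))) h1
      simp only [Matrix.SpecialLinearGroup.coe_mul, transl_apply, diag_apply] at h2
      have e : ∀ i j, _ := fun i j => congrFun (congrFun h2 i) j
      have e02 := e 0 2
      have e12 := e 1 2
      have e00 := e 0 0
      have e01 := e 0 1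
      have e10 := e 1 0
      have e11 := e 1 1
      simp [Matrix.mul_apply, Fin.sum_univ_three] at e02 e12 e00 e01 e10 e11
      have hv : v = w := by
        apply Multiplicative.toAdd.injective
        ext i
        fin_cases i
        · exact e02
        · exact e12
      have hA : A = B := by
        ext i j
        fin_cases i <;> fin_cases j
        · exact e00
        · exact e01
        · exact e10
        · exact e11
      rw [hv, hA]
    · rintro ⟨M, hM⟩
      obtain ⟨h1, h2, h3⟩ := hmem M hM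
      obtain ⟨v, A, h⟩ := exists_of_row M h1 h2 h3
      exact ⟨⟨v, A⟩, Subtype.ext h.symm⟩
  have h1 := Nat.card_congr (Equiv.ofBijective _ hbij)
  rw [← h1, Nat.card_prod, Cfsg.Agent.ClassicalGeometry.PSL2Basic.card_SL2, ZMod.card]
  have h2 : Nat.card (V p) = p ^ 2 := by
    rw [Nat.card_congr Multiplicative.toAdd, Nat.card_pi]
    simp
  rw [h2]
  ring

theorem main (p : ℕ) [hp : Fact p.Prime] (hp2 : p ≠ 2) (P : Sylow p ↥(Cfsg.qd p)) :
    Cfsg.IsExtraspecial p ↥P ∧ Nat.card P = p ^ 3 ∧ Monoid.exponent ↥P = p := by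
  have hUp : IsPGroup p (UT p) := IsPGroup.of_card (card_UT p)
  have hidx : ¬ p ∣ (UT p).index := by
    have h1 := Subgroup.card_mul_index (UT p)
    rw [card_UT, card_qd] at h1
    have h2 := Nat.eq_of_mul_eq_mul_left (pow_pos hp.out.pos 3) h1
    rw [h2]
    intro hd
    have h3 : p ∣ p ^ 2 := dvd_pow_self p (by norm_num)
    have h4 : 1 ≤ p ^ 2 := Nat.one_le_pow _ _ hp.out.pos
    have h5 := (Nat.dvd_sub h3 hd)
    have h6 : p ^ 2 - (p ^ 2 - 1) = 1 := by omega
    rw [h6] at h5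
    exact hp.out.one_lt.ne' (Nat.dvd_one.1 h5)
  let R : Sylow p ↥(Cfsg.qd p) := hUp.toSylow hidx
  have hR : (R : Subgroup ↥(Cfsg.qd p)) = UT p := rfl
  let e : P ≃* UT p := P.equiv R
  have hcard : Nat.card P = p ^ 3 := by rw [Nat.card_congr e.toEquiv, card_UT]
  have hne : ∃ x y : P, x * y ≠ y * x := by
    let x : UT p := ⟨⟨ut 1 0 0, ut_mem_qd _ _ _⟩, ⟨1, 0, 0, rfl⟩⟩
    let y : UT p := ⟨⟨ut 0 0 1, ut_mem_qd _ _ _⟩, ⟨0, 0, 1, rfl⟩⟩
    refine ⟨e.symm x, e.symm y, ?_⟩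
    intro h
    rw [← map_mul, ← map_mul] at h
    have h1 := e.symm.injective h
    have h2 : ut (1 : ZMod p) 0 0 * ut 0 0 1 = ut 0 0 1 * ut 1 0 0 :=
      congrArg (fun M : UT p => ((M : ↥(Cfsg.qd p)) : Matrix.SpecialLinearGroup (Fin 3) (ZMod p))) h1
    rw [ut_mul, ut_mul] at h2
    have h3 := (ut_inj h2).2.1
    simp at h3
  have hpow : ∀ x : P, x ^ p = 1 := by
    intro x
    apply e.injective
    rw [map_pow, map_one]
    obtain ⟨a, b, c, h⟩ := (e x).2
    apply Subtype.ext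
    apply Subtype.ext
    rw [Subgroup.coe_pow, Subgroup.coe_pow, h, ut_pow]
    have h1 : ((p.choose 2 : ℕ) : ZMod p) = 0 := by
      rw [ZMod.natCast_eq_zero_iff]
      exact hp.out.dvd_choose_self (by norm_num) (lt_of_le_of_ne hp.out.two_le (Ne.symm hp2))
    rw [h1, CharP.cast_eq_zero]
    simp [ut_zero]
  refine ⟨Cfsg.Agent.J2Type.ExtCube.isExtraspecial_of_card_cube hcard hne, hcard, ?_⟩
  rcases (Nat.dvd_prime hp.out).1 (Monoid.exponent_dvd_of_forall_pow_eq_one hpow) with h | h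
  · exfalso
    obtain ⟨x, y, hxy⟩ := hne
    apply hxy
    have : Subsingleton P := Monoid.exp_eq_one_iff.1 h
    rw [Subsingleton.elim x y]
  · exact h

end Cfsg.Agent.H275.QdSylow
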