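import Cfsg.Prelude.Def_PLocal
import Cfsg.Agent.PLocal.GlaubermanRepl
import Cfsg.Agent.S0649
import Cfsg.Agent.S0650

set_option autoImplicit false

/-!
# The rank in Glauberman's replacement theorem

With `star A c = (A ⊓ cj A c) ⟨⁅a, c⁆ : a ∈ A⟩` as in `PLocal.GlaubermanRepl`, the subgroup of elements
of order dividing the odd prime `p` in `star A c` is at least as large as that of `A`.
-/

open scoped commutatorElement

namespace Cfsg.Agent.H275.ReplRank

open Cfsg Cfsg.Agent.PLocal.GlaubermanRepl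

variable {G : Type*} [Group G]

theorem mem_omegaOne_iff {p : ℕ} {A : Subgroup G} (hA : ∀ a ∈ A, ∀ d ∈ A, a * d = d * a) {x : G} :
    x ∈ omegaOne p A ↔ x ∈ A ∧ x ^ p = 1 := by
  constructor
  · intro h
    unfold omegaOne at h
    induction h using Subgroup.closure_induction with
    | mem x hx => exact hx
    | one => exact ⟨one_mem _, one_pow _⟩
    | mul x y _ _ hx hy =>
      refine ⟨mul_mem hx.1 hy.1, ?_⟩
      have h : Commute x y := hA x hx.1 y hy.1
      rw [h.mul_pow, hx.2, hy.2, one_mul]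
    | inv x _ hx => exact ⟨inv_mem hx.1, by rw [inv_pow, hx.2, inv_one]⟩
  · intro h
    exact Subgroup.subset_closure h

theorem omegaOne_le' {p : ℕ} {A : Subgroup G} : omegaOne p A ≤ A := by
  unfold omegaOne
  rw [Subgroup.closure_le]
  exact fun x hx => hx.1

variable {A B : Subgroup G} {c : G}

theorem comm_pow_eq_one {p : ℕ} (hp : p.Prime) (hp2 : p ≠ 2) (hA : ∀ a ∈ A, ∀ d ∈ A, a * d = d * a)
    (hN1 : A ≤ Subgroup.normalizer (cj A c : Set G))
    (hN2 : cj A c ≤ Subgroup.normalizer (A : Set G)) {a : G} (ha : a ∈ A) (hap : a ^ p = 1) :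
    ⁅a, c⁆ ^ p = 1 := by
  rw [comm_eq]
  have hy : (c * a * c⁻¹)⁻¹ ∈ cj A c := inv_mem (conj_mem_cj ha)
  obtain ⟨y, hyy⟩ : ∃ y, y = (c * a * c⁻¹)⁻¹ := ⟨_, rfl⟩
  rw [← hyy] at hy ⊢
  have hye : y ^ p = 1 := by
    rw [hyy, inv_pow, conj_pow, hap]; group
  have hz : ⁅y, a⁆ ∈ A ⊓ cj A c := by
    rw [← commutatorElement_inv]
    exact inv_mem (comm_mem_Z hN1 hN2 ha hy)
  have h1 : Commute a ⁅y, a⁆ := (Z_comm_left hA _ hz a ha).symm
  have h2 : Commute y ⁅y, a⁆ := (Z_comm_right hA _ hz y hy).symm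
  have h3 : ⁅y, a⁆ ^ p = 1 := by
    have h4 := Cfsg.Agent.Transfer.ClassTwo.pow_mul_eq h1 h2 p
    rw [hye, one_mul, mul_one] at h4
    exact (mul_eq_left.1 h4.symm)
  rw [Cfsg.Agent.Transfer.ClassTwo.mul_pow_prime hp hp2 h1 h2 h3, hap, hye, one_mul]

/-- The rank does not drop. -/
theorem omega_card_le [Finite G] [B.Normal] {p : ℕ} (hp : p.Prime) (hp2 : p ≠ 2)
    (hA : ∀ a ∈ A, ∀ d ∈ A, a * d = d * a)
    (hBA : ⁅B, B⁆ ≤ A) (hc : c ∈ B) (hN1 : A ≤ Subgroup.normalizer (cj A c : Set G))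
    (hN2 : cj A c ≤ Subgroup.normalizer (A : Set G))
    (hS : ∀ x ∈ star A c, ∀ y ∈ star A c, x * y = y * x) :
    Nat.card (omegaOne p A) ≤ Nat.card (omegaOne p (star A c)) := by
  have hcm : ∀ a : omegaOne p A, ⁅(a : G), c⁆ ∈ omegaOne p (star A c) := by
    intro a
    obtain ⟨h1, h2⟩ := (mem_omegaOne_iff hA).1 a.2
    exact (mem_omegaOne_iff hS).2 ⟨comm_mem_star h1, comm_pow_eq_one hp hp2 hA hN1 hN2 h1 h2⟩
  have hSle : ∀ x ∈ omegaOne p (star A c), x ∈ star A c := fun x hx => ((mem_omegaOne_iff hS).1 hx).1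
  have hAle : ∀ x ∈ omegaOne p A, x ∈ A := fun x hx => ((mem_omegaOne_iff hA).1 hx).1
  have hnorm : ((A ⊓ cj A c).subgroupOf (omegaOne p (star A c))).Normal := by
    constructor
    intro n hn g
    rw [Subgroup.mem_subgroupOf] at hn ⊢
    have h1 : ((g * n * g⁻¹ : omegaOne p (star A c)) : G) = n := by
      push_cast
      rw [hS g (hSle _ g.2) n (hSle _ n.2)]; group
    rw [h1]
    exact hn
  let φ : omegaOne p A →* (omegaOne p (star A c)) ⧸ ((A ⊓ cj A c).subgroupOf (omegaOne p (star A c))) :=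
    { toFun := fun a => QuotientGroup.mk ⟨⁅(a : G), c⁆, hcm a⟩
      map_one' := by
        rw [QuotientGroup.eq_one_iff, Subgroup.mem_subgroupOf]
        change ⁅((1 : omegaOne p A) : G), c⁆ ∈ A ⊓ cj A c
        rw [Subgroup.coe_one, commutatorElement_one_left]
        exact one_mem _
      map_mul' := by
        intro a d
        rw [← QuotientGroup.mk_mul, QuotientGroup.eq, Subgroup.mem_subgroupOf]
        obtain ⟨z, hz, hzz⟩ := comm_mul (c := c) hA hN1 hN2 (hAle _ a.2) (hAle _ d.2)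
        change ⁅((a * d : omegaOne p A) : G), c⁆⁻¹ * (⁅(a : G), c⁆ * ⁅(d : G), c⁆) ∈ A ⊓ cj A c
        rw [Subgroup.coe_mul, hzz]
        have h1 := hS _ (comm_mem_star (c := c) (hAle _ a.2)) _ (comm_mem_star (c := c) (hAle _ d.2))
        rw [h1]
        have h2 := hS z (Z_le_star hz) _ (mul_mem (comm_mem_star (c := c) (hAle _ d.2))
          (comm_mem_star (c := c) (hAle _ a.2)))
        rw [h2]
        have h3 : (⁅(d : G), c⁆ * ⁅(a : G), c⁆ * z)⁻¹ * (⁅(d : G), c⁆ * ⁅(a : G), c⁆) = z⁻¹ := by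
          group
        rw [h3]
        exact inv_mem hz }
  have hker : φ.ker = (A ⊓ cj A c).subgroupOf (omegaOne p A) := by
    ext a
    rw [MonoidHom.mem_ker, Subgroup.mem_subgroupOf]
    change QuotientGroup.mk (⟨⁅(a : G), c⁆, hcm a⟩ : omegaOne p (star A c)) = 1 ↔ _
    rw [QuotientGroup.eq_one_iff, Subgroup.mem_subgroupOf]
    exact comm_mem_Z_iff hBA hc (hAle _ a.2)
  have h1 : Nat.card (omegaOne p A ⧸ φ.ker) ≤
      Nat.card ((omegaOne p (star A c)) ⧸ ((A ⊓ cj A c).subgroupOf (omegaOne p (star A c)))) := by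
    apply Nat.card_le_card_of_injective _ (QuotientGroup.kerLift_injective φ)
  have h2 : Nat.card φ.ker ≤ Nat.card ((A ⊓ cj A c).subgroupOf (omegaOne p (star A c))) := by
    rw [hker]
    have hm : ∀ x : (A ⊓ cj A c).subgroupOf (omegaOne p A), ((x : omegaOne p A) : G) ∈ omegaOne p (star A c) := by
      intro x
      have hx := x.2
      rw [Subgroup.mem_subgroupOf] at hx
      exact (mem_omegaOne_iff hS).2 ⟨Z_le_star hx, ((mem_omegaOne_iff hA).1 (x : omegaOne p A).2).2⟩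
    apply Nat.card_le_card_of_injective
      (fun x : (A ⊓ cj A c).subgroupOf (omegaOne p A) =>
        (⟨⟨((x : omegaOne p A) : G), hm x⟩, x.2⟩ : (A ⊓ cj A c).subgroupOf (omegaOne p (star A c))))
    intro x y hxy
    apply Subtype.ext
    apply Subtype.ext
    exact congrArg (fun z : (A ⊓ cj A c).subgroupOf (omegaOne p (star A c)) =>
      ((z : omegaOne p (star A c)) : G)) hxy
  rw [Subgroup.card_eq_card_quotient_mul_card_subgroup φ.ker,
    Subgroup.card_eq_card_quotient_mul_card_subgroup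
      ((A ⊓ cj A c).subgroupOf (omegaOne p (star A c)))]
  exact Nat.mul_le_mul h1 h2

/-- The replacement inside a `p`-group in which `B` is normal. -/
theorem replace_normal {S : Type*} [Group S] [Finite S] {p : ℕ} [hpp : Fact p.Prime] (hp : p ≠ 2)
    (hS : IsPGroup p S) (A B : Subgroup S) [B.Normal] (hA : IsMulCommutative A)
    (hBA : ⁅B, B⁆ ≤ A) (hnot : ¬ B ≤ Subgroup.normalizer (A : Set S)) :
    ∃ A' : Subgroup S, IsMulCommutative A' ∧ Nat.card A' = Nat.card A ∧ A ⊓ B < A' ⊓ B ∧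
      A' ≤ Subgroup.normalizer (A : Set S) ∧ (∃ c : S, A' ≤ A ⊔ A.map (MulAut.conj c).toMonoidHom) ∧
      Monoid.exponent A' ∣ Monoid.exponent A ∧
      Nat.card (omegaOne p A) ≤ Nat.card (omegaOne p A') := by
  have hB2 : p = 2 → IsMulCommutative B := fun h => absurd h hp
  obtain ⟨b, hb, hbN, hbA⟩ := Cfsg.Agent.S0649.result hS B hB2 A hA hBA hnot
  obtain ⟨h1, h2, -, h4, -, -, h7, -, -, h10⟩ :=
    Cfsg.Agent.S0650.main hS B hB2 A hA hBA b hb hbN hbA
  refine ⟨star A b⁻¹, h2, h1, h4, h7, ⟨b⁻¹, star_le_sup⟩, h10 hp, ?_⟩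
  have hcN : b⁻¹ ∈ Subgroup.normalizer ((Subgroup.normalizer (A : Set S)) : Set S) := inv_mem hbN
  have hAc : ∀ a ∈ A, ∀ d ∈ A, a * d = d * a := by
    intro a ha d hd
    exact congrArg Subtype.val (hA.is_comm.comm (⟨a, ha⟩ : A) ⟨d, hd⟩)
  have hSc : ∀ a ∈ star A b⁻¹, ∀ d ∈ star A b⁻¹, a * d = d * a := by
    intro a ha d hd
    exact congrArg Subtype.val (h2.is_comm.comm (⟨a, ha⟩ : star A b⁻¹) ⟨d, hd⟩)
  obtain ⟨c, hc⟩ : ∃ c, c = b⁻¹ := ⟨_, rfl⟩
  rw [← hc] at hcN hSc ⊢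
  have hNcj : Subgroup.normalizer (A : Set S) ≤ Subgroup.normalizer (cj A c : Set S) := by
    intro n hn
    have h1 : c⁻¹ * n * c ∈ Subgroup.normalizer (A : Set S) := by
      have h := ((inv_mem hcN) n).1 hn
      rwa [inv_inv] at h
    rw [Subgroup.mem_normalizer_iff]
    intro h
    rw [mem_cj, mem_cj]
    have h2 : c⁻¹ * (n * h * n⁻¹) * c = (c⁻¹ * n * c) * (c⁻¹ * h * c) * (c⁻¹ * n * c)⁻¹ := by
      group
    rw [h2]
    exact h1 _
  have hcjN : cj A c ≤ Subgroup.normalizer (A : Set S) := by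
    intro x hx
    obtain ⟨a, ha, rfl⟩ := exists_of_mem_cj hx
    exact (hcN a).1 (Subgroup.le_normalizer ha)
  exact omega_card_le hpp.out hp hAc hBA (by rw [hc]; exact inv_mem hb)
    (Subgroup.le_normalizer.trans hNcj) hcjN hSc

theorem omegaOne_map {H K : Type*} [Group H] [Group K] (f : H →* K) (hf : Function.Injective f)
    (p : ℕ) (A : Subgroup H) : omegaOne p (A.map f) = (omegaOne p A).map f := by
  unfold omegaOne
  rw [MonoidHom.map_closure]
  congr 1
  ext x
  constructor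
  · rintro ⟨⟨a, ha, rfl⟩, hx⟩
    refine ⟨a, ⟨ha, ?_⟩, rfl⟩
    apply hf
    rw [map_pow, hx, map_one]
  · rintro ⟨a, ⟨ha, hap⟩, rfl⟩
    exact ⟨⟨a, ha, rfl⟩, by rw [← map_pow, hap, map_one]⟩

theorem exponent_map {H K : Type*} [Group H] [Group K] (f : H →* K) (hf : Function.Injective f)
    (A : Subgroup H) : Monoid.exponent (A.map f) = Monoid.exponent A :=
  (Monoid.exponent_eq_of_mulEquiv (A.equivMapOfInjective f hf)).symm

theorem card_map {H K : Type*} [Group H] [Group K] (f : H →* K) (hf : Function.Injective f)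
    (A : Subgroup H) : Nat.card (A.map f) = Nat.card A :=
  (Nat.card_congr (A.equivMapOfInjective f hf).toEquiv).symm

/-- The abelian replacement theorem for odd `p`, with exponent and rank. -/
theorem main {p : ℕ} [Finite G] [Fact p.Prime] (hp : p ≠ 2) (hG : IsPGroup p G) (A B : Subgroup G)
    (hA : IsMulCommutative A) (hBA : ⁅B, B⁆ ≤ A)
    (hAB : A ≤ Subgroup.normalizer (B : Set G)) (hBnA : ¬ B ≤ Subgroup.normalizer (A : Set G)) :
    ∃ Astar : Subgroup G, IsMulCommutative Astar ∧ Nat.card Astar = Nat.card A ∧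
      A ⊓ B < Astar ⊓ B ∧ Astar ≤ Subgroup.normalizer (A : Set G) ∧
      Astar ≤ Subgroup.normalClosure (A : Set G) ∧ Monoid.exponent Astar ∣ Monoid.exponent A ∧
      Nat.card (Cfsg.omegaOne p A) ≤ Nat.card (Cfsg.omegaOne p Astar) := by
  obtain ⟨L, hL⟩ : ∃ L : Subgroup G, L = A ⊔ B := ⟨_, rfl⟩
  have hAL : A ≤ L := by rw [hL]; exact le_sup_left
  have hBL : B ≤ L := by rw [hL]; exact le_sup_right
  have hLN : L ≤ Subgroup.normalizer (B : Set G) := by
    rw [hL]; exact sup_le hAB Subgroup.le_normalizer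
  have hinj := L.subtype_injective
  haveI hBn : (B.subgroupOf L).Normal := Subgroup.normal_subgroupOf_of_le_normalizer hLN
  have hAmap : (A.subgroupOf L).map L.subtype = A := by
    rw [Subgroup.subgroupOf_map_subtype, inf_eq_left.2 hAL]
  have hBmap : (B.subgroupOf L).map L.subtype = B := by
    rw [Subgroup.subgroupOf_map_subtype, inf_eq_left.2 hBL]
  have hA1 : IsMulCommutative (A.subgroupOf L) := by
    constructor; constructor
    rintro ⟨x, hx⟩ ⟨y, hy⟩
    apply Subtype.ext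
    apply Subtype.ext
    have h := congrArg (fun z : A => (z : G)) (hA.is_comm.comm (⟨(x : G), hx⟩ : A) ⟨(y : G), hy⟩)
    exact h
  have hBA1 : ⁅B.subgroupOf L, B.subgroupOf L⁆ ≤ A.subgroupOf L := by
    rw [← Subgroup.map_subtype_le_map_subtype, Subgroup.map_commutator, hBmap, hAmap]
    exact hBA
  have hnot1 : ¬ B.subgroupOf L ≤ Subgroup.normalizer ((A.subgroupOf L : Subgroup L) : Set L) := by
    intro h
    apply hBnA
    intro b hb
    have h1 := h (x := ⟨b, hBL hb⟩) hb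
    rw [← Subgroup.subgroupOf_normalizer_eq hAL, Subgroup.mem_subgroupOf] at h1
    exact h1
  obtain ⟨A', h1, h2, h3, h4, ⟨c, h5⟩, h6, h7⟩ := replace_normal hp (hG.to_subgroup L)
    (A.subgroupOf L) (B.subgroupOf L) hA1 hBA1 hnot1
  refine ⟨A'.map L.subtype, ?_, ?_, ?_, ?_, ?_, ?_, ?_⟩
  · constructor; constructor
    rintro ⟨_, x, hx, rfl⟩ ⟨_, y, hy, rfl⟩
    apply Subtype.ext
    have := congrArg (fun z : A' => ((z : L) : G)) (h1.is_comm.comm (⟨x, hx⟩ : A') ⟨y, hy⟩)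
    exact this
  · rw [card_map _ hinj, h2, ← card_map _ hinj (A.subgroupOf L), hAmap]
  · have e1 : A ⊓ B = (A.subgroupOf L ⊓ B.subgroupOf L).map L.subtype := by
      rw [Subgroup.map_inf _ _ _ hinj, hAmap, hBmap]
    have e2 : A'.map L.subtype ⊓ B = (A' ⊓ B.subgroupOf L).map L.subtype := by
      rw [Subgroup.map_inf _ _ _ hinj, hBmap]
    rw [e1, e2, Subgroup.map_lt_map_iff_of_injective hinj]
    exact h3
  · rintro _ ⟨x, hx, rfl⟩
    have h8 := h4 hx
    rw [← Subgroup.subgroupOf_normalizer_eq hAL, Subgroup.mem_subgroupOf] at h8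
    exact h8
  · have h9 := Subgroup.map_mono (f := L.subtype) h5
    refine h9.trans ?_
    rw [Subgroup.map_sup, hAmap]
    refine sup_le Subgroup.le_normalClosure ?_
    rintro _ ⟨_, ⟨x, hx, rfl⟩, rfl⟩
    have h10 : (x : G) ∈ Subgroup.normalClosure (A : Set G) := Subgroup.le_normalClosure hx
    exact Subgroup.normalClosure_normal.conj_mem _ h10 (c : G)
  · rw [exponent_map _ hinj, ← hAmap, exponent_map _ hinj]
    exact h6
  · rw [← hAmap, omegaOne_map _ hinj, omegaOne_map _ hinj, card_map _ hinj, card_map _ hinj]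
    exact h7

end Cfsg.Agent.H275.ReplRank
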