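import Cfsg.Agent.ClassicalGeometry.DicksonCount

set_option autoImplicit false

/-!
# Finite groups all of whose nonidentity elements have exactly two fixed points

The orbit counting behind the classification of the finite subgroups of `PGL₂` of order prime to the characteristic.
`cases_of_four_le`: at most two points have a stabilizer of order at least four, or all these points form one orbit
of length 6 (stabilizers of order 4) or 12 (stabilizers of order 5).
-/

namespace Cfsg.Agent.H275.TwoFix

open MulAction Cfsg.Agent.ClassicalGeometry.DicksonCount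

/-- Every nonidentity element has exactly two fixed points. -/
def TwoFixed (G X : Type*) [Group G] [MulAction G X] : Prop :=
  ∀ g : G, g ≠ 1 → ∃ x y : X, x ≠ y ∧ ∀ z : X, g • z = z ↔ z = x ∨ z = y

variable {G X : Type*} [Group G] [MulAction G X]

theorem sum_formula [Finite G] (h : TwoFixed G X) (S : Finset X)
    (hS : ∀ x : X, (∃ g : G, g ≠ 1 ∧ g • x = x) → x ∈ S) :
    ∑ x ∈ S, Nat.card (stabilizer G x) + 2 = 2 * Nat.card G + S.card := by
  classical
  have := Fintype.ofFinite G
  have e1 : ∀ x : X, Nat.card (stabilizer G x) = ∑ g : G, if g • x = x then 1 else 0 := by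
    intro x
    rw [Finset.sum_boole, Nat.cast_id, Nat.card_eq_fintype_card, Fintype.card_subtype]
    rfl
  have e3 : ∀ g : G, g ≠ 1 → ∑ x ∈ S, (if g • x = x then 1 else 0) = 2 := by
    intro g hg
    obtain ⟨x, y, hxy, hf⟩ := h g hg
    have hxS : x ∈ S := hS x ⟨g, hg, (hf x).2 (Or.inl rfl)⟩
    have hyS : y ∈ S := hS y ⟨g, hg, (hf y).2 (Or.inr rfl)⟩
    have h1 : ∀ z ∈ S, (if g • z = z then 1 else 0) =
        (if z = x then 1 else 0) + (if z = y then 1 else 0) := by
      intro z _
      simp only [hf]
      by_cases hzx : z = x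
      · subst hzx; simp [hxy]
      · simp [hzx]
    rw [Finset.sum_congr rfl h1, Finset.sum_add_distrib,
      Finset.sum_ite_eq' S x, Finset.sum_ite_eq' S y, if_pos hxS, if_pos hyS]
  have e4 : ∑ x ∈ S, Nat.card (stabilizer G x) = ∑ g : G, ∑ x ∈ S, (if g • x = x then 1 else 0) := by
    rw [Finset.sum_comm]
    exact Finset.sum_congr rfl (fun x _ => e1 x)
  rw [e4, ← Finset.add_sum_erase Finset.univ _ (Finset.mem_univ (1 : G))]
  have e5 : ∀ g ∈ Finset.univ.erase (1 : G), ∑ x ∈ S, (if g • x = x then 1 else 0) = 2 :=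
    fun g hg => e3 g (Finset.ne_of_mem_erase hg)
  rw [Finset.sum_congr rfl e5, Finset.sum_const, Finset.card_erase_of_mem (Finset.mem_univ _)]
  have e6 : ∑ x ∈ S, (if (1 : G) • x = x then 1 else 0) = S.card := by
    have : ∀ x ∈ S, (if (1 : G) • x = x then 1 else 0) = 1 := by
      intro x _
      rw [if_pos (one_smul _ _)]
    rw [Finset.sum_congr rfl this, Finset.sum_const, smul_eq_mul, mul_one]
  rw [e6, Finset.card_univ, ← Nat.card_eq_fintype_card, smul_eq_mul]
  have : 0 < Nat.card G := Nat.card_pos
  omega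

theorem exists_finset [Finite G] (h : TwoFixed G X) :
    ∃ S : Finset X, ∀ x : X, x ∈ S ↔ ∃ g : G, g ≠ 1 ∧ g • x = x := by
  classical
  have hfin : Set.Finite {x : X | ∃ g : G, g ≠ 1 ∧ g • x = x} := by
    have : {x : X | ∃ g : G, g ≠ 1 ∧ g • x = x} = ⋃ g : {g : G // g ≠ 1}, {x : X | (g : G) • x = x} := by
      ext x
      simp
    rw [this]
    apply Set.finite_iUnion
    rintro ⟨g, hg⟩
    obtain ⟨x, y, -, hf⟩ := h g hg
    apply (Set.toFinite {x, y}).subset
    intro z hz
    exact (hf z).1 hz
  exact ⟨hfin.toFinset, fun x => by rw [Set.Finite.mem_toFinset]; rfl⟩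

theorem exists_reps' [Finite G] (h : TwoFixed G X) : ∃ S R : Finset X, Reps G S R := by
  obtain ⟨S, hS⟩ := exists_finset h
  have hinv : ∀ (g : G) (x : X), x ∈ S → g • x ∈ S := by
    intro g x hx
    rw [hS] at hx ⊢
    obtain ⟨u, hu, hux⟩ := hx
    refine ⟨g * u * g⁻¹, ?_, ?_⟩
    · intro hc
      apply hu
      have : u = g⁻¹ * (g * u * g⁻¹) * g := by group
      rw [this, hc]; group
    · rw [mul_smul, mul_smul, inv_smul_smul, hux]
  obtain ⟨R, h1, h2, h3, h4⟩ := exists_reps (G := G) S hinv
  exact ⟨S, R, ⟨hS, h1, h2, h3, h4⟩⟩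

theorem sum_R [Finite G] (h : TwoFixed G X) {S R : Finset X} (hSR : Reps G S R) :
    R.card * Nat.card G + 2 = 2 * Nat.card G + ∑ r ∈ R, Nat.card (orbit G r) := by
  have h1 := sum_formula h S (fun x hx => (hSR.mem x).2 hx)
  rw [hSR.sum (fun x => Nat.card (stabilizer G x)) (fun g x => by rw [card_stab_smul])] at h1
  have h2 := hSR.sum (fun _ => 1) (fun _ _ => rfl)
  simp only [Finset.sum_const, smul_eq_mul, mul_one] at h2
  have h3 : ∑ r ∈ R, Nat.card (orbit G r) * Nat.card (stabilizer G r) = R.card * Nat.card G := by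
    rw [Finset.sum_congr rfl (fun r _ => card_orbit_mul r), Finset.sum_const, smul_eq_mul]
  rw [h3, h2] at h1
  exact h1

/-- At most two points have a stabilizer of order at least four, or all these points form one orbit of length 6
(stabilizers of order 4) or 12 (stabilizers of order 5). -/
theorem cases_of_four_le [Finite G] (h : TwoFixed G X) (x : X) (hx : 4 ≤ Nat.card (stabilizer G x)) :
    (∃ a b : X, ∀ y : X, 4 ≤ Nat.card (stabilizer G y) → y = a ∨ y = b) ∨
    (Nat.card (stabilizer G x) = 4 ∧ Nat.card (orbit G x) = 6 ∧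
      ∀ y : X, 4 ≤ Nat.card (stabilizer G y) → y ∈ orbit G x) ∨
    (Nat.card (stabilizer G x) = 5 ∧ Nat.card (orbit G x) = 12 ∧
      ∀ y : X, 4 ≤ Nat.card (stabilizer G y) → y ∈ orbit G x) := by
  classical
  obtain ⟨S, R, hSR⟩ := exists_reps' h
  have hsum := sum_R h hSR
  set N := Nat.card G with hN
  have hne : ∀ r : X, Nat.card (orbit G r) * Nat.card (stabilizer G r) = N := fun r : X => card_orbit_mul r
  have hmemS : ∀ y : X, 2 ≤ Nat.card (stabilizer G y) → y ∈ S := by
    intro y hy
    rw [hSR.mem]
    have : Nontrivial (stabilizer G y) := Finite.one_lt_card_iff_nontrivial.1 (by omega)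
    obtain ⟨g, hg⟩ := exists_ne (1 : stabilizer G y)
    exact ⟨g, fun hc => hg (Subtype.ext hc), g.2⟩
  have he : ∀ r ∈ R, 2 ≤ Nat.card (stabilizer G r) := by
    intro r hr
    obtain ⟨g, hg, hgr⟩ := (hSR.mem r).1 (hSR.sub hr)
    have : Nontrivial (stabilizer G r) :=
      ⟨⟨⟨g, hgr⟩, 1, fun hc => hg (congrArg Subtype.val hc)⟩⟩
    exact Finite.one_lt_card
  have horb : ∀ y : X, 2 ≤ Nat.card (stabilizer G y) → ∃ r ∈ R, y ∈ orbit G r ∧
      Nat.card (stabilizer G y) = Nat.card (stabilizer G r) := by
    intro y hy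
    obtain ⟨r, hr, hyr⟩ := hSR.cover y (hmemS y hy)
    refine ⟨r, hr, hyr, ?_⟩
    obtain ⟨g, rfl⟩ := hyr
    exact card_stab_smul g r
  have hNpos : 0 < N := Nat.card_pos
  have hR3 : R.card ≤ 3 := by
    by_contra hcon
    push Not at hcon
    have h1 : ∑ r ∈ R, Nat.card (orbit G r) * 2 ≤ ∑ r ∈ R, N := by
      apply Finset.sum_le_sum
      intro r hr
      rw [← hne r]
      exact Nat.mul_le_mul le_rfl (he r hr)
    rw [← Finset.sum_mul, Finset.sum_const, smul_eq_mul] at h1
    have h5 : 4 * N ≤ R.card * N := Nat.mul_le_mul (by omega) le_rfl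
    omega
  obtain ⟨r, hr, hxr, hxe⟩ := horb x (by omega)
  have hxorb : Nat.card (orbit G x) = Nat.card (orbit G r) := by
    rw [orbit_eq_iff.2 hxr]
  have hr4 : 4 ≤ Nat.card (stabilizer G r) := by omega
  -- the size of the group
  have hN4 : 4 ≤ N := by
    have h1 := Nat.le_of_dvd Nat.card_pos (Subgroup.card_subgroup_dvd_card (stabilizer G x))
    omega
  have hpos : ∀ s : X, 0 < Nat.card (orbit G s) := by
    intro s
    apply Nat.pos_of_ne_zero
    intro h0
    have := hne s
    rw [h0] at this
    omega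
  interval_cases hRc : R.card
  · -- no orbits
    exfalso; omega
  · exfalso
    have := hpos r
    obtain ⟨s, rfl⟩ := Finset.card_eq_one.1 hRc
    rw [Finset.sum_singleton] at hsum
    omega
  · -- two orbits
    left
    obtain ⟨s, t, hst, rfl⟩ := Finset.card_eq_two.1 hRc
    rw [Finset.sum_pair hst] at hsum
    have h1 := hpos s
    have h2 := hpos t
    have h3 : Nat.card (orbit G s) = 1 := by omega
    have h4 : Nat.card (orbit G t) = 1 := by omega
    refine ⟨s, t, fun y hy => ?_⟩
    obtain ⟨u, hu, hyu, -⟩ := horb y (by omega)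
    have hone : ∀ w : X, Nat.card (orbit G w) = 1 → y ∈ orbit G w → y = w := by
      intro w hw hy'
      rw [Nat.card_eq_one_iff_unique] at hw
      have := hw.1
      exact congrArg Subtype.val (Subsingleton.elim (⟨y, hy'⟩ : orbit G w) ⟨w, mem_orbit_self w⟩)
    rw [Finset.mem_insert, Finset.mem_singleton] at hu
    rcases hu with rfl | rfl
    · exact Or.inl (hone _ h3 hyu)
    · exact Or.inr (hone _ h4 hyu)
  · -- three orbits
    obtain ⟨s, t, hrs, hrt, hst, hRR⟩ : ∃ s t : X, r ≠ s ∧ r ≠ t ∧ s ≠ t ∧ R = {r, s, t} := by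
      have h1 : (R.erase r).card = 2 := by rw [Finset.card_erase_of_mem hr, hRc]
      obtain ⟨s, t, hst, hR'⟩ := Finset.card_eq_two.1 h1
      refine ⟨s, t, ?_, ?_, hst, ?_⟩
      · rintro rfl
        have : r ∈ R.erase r := by rw [hR']; simp
        exact Finset.notMem_erase r R this
      · rintro rfl
        have : r ∈ R.erase r := by rw [hR']; simp
        exact Finset.notMem_erase r R this
      · rw [← Finset.insert_erase hr, hR']
    have hs2 := he s (by rw [hRR]; simp)
    have ht2 := he t (by rw [hRR]; simp)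
    rw [hRR, Finset.sum_insert (by simp [hrs, hrt]), Finset.sum_pair hst] at hsum
    have hr1 := hne r
    have hs1 := hne s
    have ht1 := hne t
    have hallR : ∀ y : X, 4 ≤ Nat.card (stabilizer G y) → Nat.card (stabilizer G s) < 4 →
        Nat.card (stabilizer G t) < 4 → y ∈ orbit G r := by
      intro y hy h5 h6
      obtain ⟨u, hu, hyu, hye⟩ := horb y (by omega)
      rw [hRR, Finset.mem_insert, Finset.mem_insert, Finset.mem_singleton] at hu
      rcases hu with rfl | rfl | rfl
      · exact hyu
      · omega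
      · omega
    have hmul : ∀ (n e c : ℕ), n * e = N → c ≤ e → n * c ≤ N := by
      intro n e c h1 h2
      rw [← h1]; exact Nat.mul_le_mul le_rfl h2
    -- one of `s`, `t` has stabilizer of order two, the other at most three
    have hm := hmul _ _ 4 hr1 hr4
    have hs := hmul _ _ 2 hs1 hs2
    have ht := hmul _ _ 2 ht1 ht2
    have hcase : (Nat.card (stabilizer G s) = 2 ∧ Nat.card (stabilizer G t) ≤ 3) ∨
        (Nat.card (stabilizer G t) = 2 ∧ Nat.card (stabilizer G s) ≤ 3) := by
      by_contra hcon
      push Not at hcon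
      by_cases h5 : Nat.card (stabilizer G s) = 2
      · have h6 := hcon.1 h5
        have := hmul _ _ 4 ht1 h6
        omega
      · by_cases h7 : Nat.card (stabilizer G t) = 2
        · have h6 := hcon.2 h7
          have := hmul _ _ 4 hs1 h6
          omega
        · have h8 := hmul _ _ 3 hs1 (by omega)
          have h9 := hmul _ _ 3 ht1 (by omega)
          omega
    have hs4 : Nat.card (stabilizer G s) < 4 := by omega
    have ht4 : Nat.card (stabilizer G t) < 4 := by omega
    have hall : ∀ y : X, 4 ≤ Nat.card (stabilizer G y) → y ∈ orbit G r := fun y hy => hallR y hy hs4 ht4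
    have hall' : ∀ y : X, 4 ≤ Nat.card (stabilizer G y) → y ∈ orbit G x := by
      intro y hy
      rw [orbit_eq_iff.2 hxr]; exact hall y hy
    rw [hxe, hxorb]
    -- either both are 2, or (2, 3)
    by_cases h22 : Nat.card (stabilizer G s) = 2 ∧ Nat.card (stabilizer G t) = 2
    · left
      rw [h22.1] at hs1
      rw [h22.2] at ht1
      have hr2 : Nat.card (orbit G r) = 2 := by omega
      rw [Nat.card_coe_set_eq, Set.ncard_eq_two] at hr2
      obtain ⟨a, b, -, hab⟩ := hr2
      refine ⟨a, b, fun y hy => ?_⟩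
      have := hall y hy
      rw [hab] at this
      exact this
    · right
      have h23 : 12 * Nat.card (orbit G r) = 2 * N + 24 := by
        rcases hcase with ⟨h5, h6⟩ | ⟨h5, h6⟩
        · have h7 : Nat.card (stabilizer G t) = 3 := by
            have : Nat.card (stabilizer G t) ≠ 2 := fun hc => h22 ⟨h5, hc⟩
            omega
          rw [h5] at hs1
          rw [h7] at ht1
          omega
        · have h7 : Nat.card (stabilizer G s) = 3 := by
            have : Nat.card (stabilizer G s) ≠ 2 := fun hc => h22 ⟨hc, h5⟩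
            omega
          rw [h5] at ht1
          rw [h7] at hs1
          omega
      have hr5 : Nat.card (stabilizer G r) ≤ 5 := by
        by_contra hc
        have := hmul _ _ 6 hr1 (by omega)
        omega
      have hr6 : Nat.card (stabilizer G r) = 4 ∨ Nat.card (stabilizer G r) = 5 := by omega
      rcases hr6 with h8 | h8
      · left
        rw [h8] at hr1 ⊢
        exact ⟨rfl, by omega, hall'⟩
      · right
        rw [h8] at hr1 ⊢
        exact ⟨rfl, by omega, hall'⟩

/-- No three points with stabilizers of order at least six. -/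
theorem false_of_three [Finite G] (h : TwoFixed G X) (x : Fin 3 → X) (hinj : Function.Injective x)
    (hx : ∀ i, 6 ≤ Nat.card (stabilizer G (x i))) : False := by
  have h01 : x 0 ≠ x 1 := fun hc => absurd (hinj hc) (by decide)
  have h02 : x 0 ≠ x 2 := fun hc => absurd (hinj hc) (by decide)
  have h12 : x 1 ≠ x 2 := fun hc => absurd (hinj hc) (by decide)
  have h0 := hx 0
  rcases cases_of_four_le h (x 0) (by omega) with ⟨a, b, hab⟩ | ⟨h1, -⟩ | ⟨h1, -⟩
  · have h3 := hab (x 0) (by have := hx 0; omega)
    have h4 := hab (x 1) (by have := hx 1; omega)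
    have h5 := hab (x 2) (by have := hx 2; omega)
    rcases h3 with h3 | h3 <;> rcases h4 with h4 | h4 <;> rcases h5 with h5 | h5
    · exact h01 (h3.trans h4.symm)
    · exact h01 (h3.trans h4.symm)
    · exact h02 (h3.trans h5.symm)
    · exact h12 (h4.trans h5.symm)
    · exact h12 (h4.trans h5.symm)
    · exact h02 (h3.trans h5.symm)
    · exact h01 (h3.trans h4.symm)
    · exact h01 (h3.trans h4.symm)
  · omega
  · omega

/-- No seven points with stabilizers of order divisible by four. -/
theorem false_of_seven [Finite G] (h : TwoFixed G X) (x : Fin 7 → X) (hinj : Function.Injective x)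
    (hx : ∀ i, 4 ∣ Nat.card (stabilizer G (x i))) : False := by
  have hx4 : ∀ i, 4 ≤ Nat.card (stabilizer G (x i)) := fun i => Nat.le_of_dvd Nat.card_pos (hx i)
  rcases cases_of_four_le h (x 0) (hx4 0) with ⟨a, b, hab⟩ | ⟨-, h1, h2⟩ | ⟨h1, -⟩
  · have h01 : x 0 ≠ x 1 := fun hc => absurd (hinj hc) (by decide)
    have h02 : x 0 ≠ x 2 := fun hc => absurd (hinj hc) (by decide)
    have h12 : x 1 ≠ x 2 := fun hc => absurd (hinj hc) (by decide)
    have h3 := hab (x 0) (hx4 0)
    have h4 := hab (x 1) (hx4 1)
    have h5 := hab (x 2) (hx4 2)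
    rcases h3 with h3 | h3 <;> rcases h4 with h4 | h4 <;> rcases h5 with h5 | h5
    · exact h01 (h3.trans h4.symm)
    · exact h01 (h3.trans h4.symm)
    · exact h02 (h3.trans h5.symm)
    · exact h12 (h4.trans h5.symm)
    · exact h12 (h4.trans h5.symm)
    · exact h02 (h3.trans h5.symm)
    · exact h01 (h3.trans h4.symm)
    · exact h01 (h3.trans h4.symm)
  · have hfin : Finite (orbit G (x 0)) := Nat.finite_of_card_ne_zero (by omega)
    let f : Fin 7 → orbit G (x 0) := fun i => ⟨x i, h2 (x i) (hx4 i)⟩
    have hf : Function.Injective f := fun i j hij => hinj (congrArg Subtype.val hij)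
    have := Nat.card_le_card_of_injective f hf
    rw [Nat.card_eq_fintype_card, Fintype.card_fin, h1] at this
    omega
  · have := hx 0
    omega

end Cfsg.Agent.H275.TwoFix
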